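import Mathlib
import Cfsg.Prelude.Def_GeometricClasses
import Cfsg.Agent.Lib.Helper27.ASC.Defs
import Cfsg.Agent.Lib.Helper19.ASG.Defs
import Cfsg.Agent.Lib.Helper9.ASGD2T.Defs

/-!
# Block D2TF (sub-leader helper9) : the tensor-induced case WITH A FORM, generic in the form (Sp / O / U)

Shared definitions: an abstract adjoint `IsStarOp σ star` (a `σ`-semilinear anti-automorphism of order two of the matrix
algebra; `star x = G⁻¹ xᵀ G` for a bilinear form, `G⁻¹ (σ x)ᵀ G` for a sesquilinear one) and `tensorFac e B i a`, the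
`i`-th tensor factor `B · reindex (1 ⊗ ⋯ ⊗ a ⊗ ⋯ ⊗ 1) · B⁻¹` in the coordinates `(e, B)` of `perfect_structure`.
-/

set_option autoImplicit false

namespace Cfsg.Agent.Lib.Helper19.ASG

open Cfsg Cfsg.Geo Cfsg.Agent.Lib.Helper27.ASC
open scoped MatrixGroups Matrix

variable {n : ℕ} {F : Type*} [Field F]

/-- an abstract adjoint on `M_n(F)` -/
structure IsStarOp (σ : F →+* F) (star : Matrix (Fin n) (Fin n) F → Matrix (Fin n) (Fin n) F) : Prop where
  mul : ∀ x y, star (x * y) = star y * star x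
  add : ∀ x y, star (x + y) = star x + star y
  smul : ∀ (c : F) x, star (c • x) = σ c • star x
  one : star 1 = 1
  invol : ∀ x, star (star x) = x

/-- the `i`-th tensor factor in the coordinates `(e, B)` -/
def tensorFac {k t : ℕ} (e : Fin n ≃ (Fin t → Fin k)) (B : GL (Fin n) F) (i : Fin t)
    (a : Matrix (Fin k) (Fin k) F) : Matrix (Fin n) (Fin n) F :=
  (B : Matrix (Fin n) (Fin n) F) * Matrix.reindex e.symm e.symm (ptMat (Pi.mulSingle i a)) *
    ((B⁻¹ : GL (Fin n) F) : Matrix (Fin n) (Fin n) F)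

theorem tensorFac_def {k t : ℕ} (e : Fin n ≃ (Fin t → Fin k)) (B : GL (Fin n) F) (i : Fin t)
    (a : Matrix (Fin k) (Fin k) F) :
    tensorFac e B i a = (B : Matrix (Fin n) (Fin n) F) *
      Matrix.reindex e.symm e.symm (ptMat (Pi.mulSingle i a)) *
      ((B⁻¹ : GL (Fin n) F) : Matrix (Fin n) (Fin n) F) := rfl

end Cfsg.Agent.Lib.Helper19.ASG
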